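import Groth.Agent.Dev46.Step
import Mathlib.CategoryTheory.Abelian.SerreClass.Localization
import Mathlib.CategoryTheory.Limits.Preserves.Shapes.Kernels

/-!
`K₀` of a Serre quotient.
-/

set_option autoImplicit false
set_option linter.unusedSectionVars false
set_option linter.style.haveILetI false

noncomputable section

universe v v' u u'

open CategoryTheory CategoryTheory.Limits

namespace Groth.Agent.K0Serre46

variable {A : Type u} [Category.{v} A] [Abelian A]

theorem cl_add (S : ShortComplex A) (hS : S.ShortExact) :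
    KZero.cl S.X₂ = KZero.cl S.X₁ + KZero.cl S.X₃ := by
  rw [KZero.cl, KZero.cl, KZero.cl, ← sub_eq_zero, ← sub_sub, ← QuotientAddGroup.mk_sub,
    ← QuotientAddGroup.mk_sub, QuotientAddGroup.eq_zero_iff]
  exact AddSubgroup.subset_closure ⟨S, hS, rfl⟩

theorem cl_iso {X Y : A} (e : X ≅ Y) : KZero.cl X = KZero.cl Y := by
  obtain ⟨Z, hZ⟩ := HasZeroObject.zero (C := A)
  have hS : (ShortComplex.mk (0 : Z ⟶ X) e.hom zero_comp).ShortExact :=
    { exact := (ShortComplex.exact_iff_mono _ rfl).2 (inferInstanceAs (Mono e.hom))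
      mono_f := ⟨fun g h _ => hZ.eq_of_tgt g h⟩ }
  have hS' : (ShortComplex.mk (𝟙 Z) (0 : Z ⟶ Z) comp_zero).ShortExact :=
    { exact := ShortComplex.exact_of_isZero_X₂ _ hZ
      epi_g := ⟨fun g h _ => hZ.eq_of_src g h⟩ }
  have e₀ : KZero.cl Z = KZero.cl Z + KZero.cl Z := cl_add _ hS'
  have e₁ : KZero.cl X = KZero.cl Z + KZero.cl Y := cl_add _ hS
  rw [e₁, left_eq_add.1 e₀, zero_add]

theorem cl_isZero {Z : A} (hZ : IsZero Z) : KZero.cl Z = 0 := by
  have e₀ : KZero.cl Z = KZero.cl Z + KZero.cl Z := cl_add (ShortComplex.mk (𝟙 Z) (0 : Z ⟶ Z) comp_zero)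
    { exact := ShortComplex.exact_of_isZero_X₂ _ hZ
      epi_g := ⟨fun g h _ => hZ.eq_of_src g h⟩ }
  exact left_eq_add.1 e₀

variable (P : ObjectProperty A) [P.IsSerreClass]

/-- The map induced by the inclusion. -/
def incl : KZero.K0sub P →+ KZero.K0 A :=
  QuotientAddGroup.lift _ (FreeAbelianGroup.lift fun X => KZero.cl X.1) (by
    rw [KZero.relSub, AddSubgroup.closure_le]
    rintro _ ⟨S, h₁, h₂, h₃, hS, rfl⟩
    rw [SetLike.mem_coe, AddMonoidHom.mem_ker, map_sub, map_sub, FreeAbelianGroup.lift_apply_of,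
      FreeAbelianGroup.lift_apply_of, FreeAbelianGroup.lift_apply_of, cl_add S hS]
    abel)

theorem incl_clSub {X : A} (h : P X) : incl P (KZero.clSub P X) = KZero.cl X :=
  (congrArg (incl P) (KDer46.clSub_eq h)).trans (FreeAbelianGroup.lift_apply_of _ _)

variable {Q : Type u'} [Category.{v'} Q] [Abelian Q] (L : A ⥤ Q) [L.IsLocalization P.isoModSerre]
  [L.Additive] [PreservesFiniteLimits L] [PreservesFiniteColimits L]

/-- The map induced by the localisation functor. -/
def lamHom : KZero.K0 A →+ KZero.K0 Q :=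
  QuotientAddGroup.lift _ (FreeAbelianGroup.lift fun X => KZero.cl (L.obj X)) (by
    rw [KZero.relAb, AddSubgroup.closure_le]
    rintro _ ⟨S, hS, rfl⟩
    rw [SetLike.mem_coe, AddMonoidHom.mem_ker, map_sub, map_sub, FreeAbelianGroup.lift_apply_of,
      FreeAbelianGroup.lift_apply_of, FreeAbelianGroup.lift_apply_of]
    have e := cl_add (S.map L) (hS.map_of_exact L)
    change KZero.cl (L.obj S.X₂) = KZero.cl (L.obj S.X₁) + KZero.cl (L.obj S.X₃) at e
    rw [e]
    abel)

theorem lamHom_cl (X : A) : lamHom L (KZero.cl X) = KZero.cl (L.obj X) :=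
  FreeAbelianGroup.lift_apply_of _ _

theorem cl_mem_range {X : A} (h : IsZero (L.obj X)) : KZero.cl X ∈ (incl P).range :=
  ⟨KZero.clSub P X, incl_clSub P ((ObjectProperty.SerreClassLocalization.isZero_obj_iff L P X).1 h)⟩

theorem cl_sub_mem {X Y : A} (φ : X ⟶ Y) [IsIso (L.map φ)] :
    KZero.cl X - KZero.cl Y ∈ (incl P).range := by
  have hk : IsZero (L.obj (kernel φ)) :=
    IsZero.of_iso (isZero_kernel_of_mono (L.map φ)) (PreservesKernel.iso L φ)
  have hc : IsZero (L.obj (cokernel φ)) :=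
    IsZero.of_iso (isZero_cokernel_of_epi (L.map φ)) (PreservesCokernel.iso L φ)
  have e₁ : KZero.cl X = KZero.cl (kernel φ) + KZero.cl (kernel (cokernel.π φ)) :=
    cl_add _ (Dev46.shortExact_ker φ)
  have e₂ : KZero.cl Y = KZero.cl (kernel (cokernel.π φ)) + KZero.cl (cokernel φ) :=
    cl_add _ (Dev46.shortExact_coker φ)
  rw [e₁, e₂]
  convert sub_mem (cl_mem_range P L hk) (cl_mem_range P L hc) using 1
  abel

theorem cl_sub_mem_of_iso {X Y : A} (e : L.obj X ≅ L.obj Y) :
    KZero.cl X - KZero.cl Y ∈ (incl P).range := by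
  obtain ⟨φ, hφ⟩ := Localization.exists_rightFraction L P.isoModSerre e.hom
  haveI hs : IsIso (L.map φ.s) := Localization.inverts L P.isoModSerre φ.s φ.hs
  haveI : IsIso (L.map φ.f) := by
    rw [show L.map φ.f = L.map φ.s ≫ e.hom by rw [hφ, MorphismProperty.RightFraction.map_s_comp_map]]
    infer_instance
  convert sub_mem (cl_sub_mem P L φ.f) (cl_sub_mem P L φ.s) using 1
  abel

/-- The inverse modulo the image of `K₀` of the Serre class. -/
def liftHom : KZero.K0 Q →+ KZero.K0 A ⧸ (incl P).range :=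
  haveI : L.EssSurj := Localization.essSurj L P.isoModSerre
  QuotientAddGroup.lift _ (FreeAbelianGroup.lift fun F =>
    QuotientAddGroup.mk (KZero.cl (L.objPreimage F))) (by
    rw [KZero.relAb, AddSubgroup.closure_le]
    rintro _ ⟨S, hS, rfl⟩
    rw [SetLike.mem_coe, AddMonoidHom.mem_ker, map_sub, map_sub, FreeAbelianGroup.lift_apply_of,
      FreeAbelianGroup.lift_apply_of, FreeAbelianGroup.lift_apply_of, ← QuotientAddGroup.mk_sub,
      ← QuotientAddGroup.mk_sub, QuotientAddGroup.eq_zero_iff]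
    let e₁ := L.objObjPreimageIso S.X₁
    let e₂ := L.objObjPreimageIso S.X₂
    let e₃ := L.objObjPreimageIso S.X₃
    obtain ⟨φ, hφ⟩ := Localization.exists_rightFraction L P.isoModSerre (e₂.hom ≫ S.g ≫ e₃.inv)
    haveI hs : IsIso (L.map φ.s) := Localization.inverts L P.isoModSerre φ.s φ.hs
    have hg : L.map φ.f ≫ e₃.hom = (asIso (L.map φ.s) ≪≫ e₂).hom ≫ S.g := by
      have h : L.map φ.f = L.map φ.s ≫ e₂.hom ≫ S.g ≫ e₃.inv := by
        rw [hφ, MorphismProperty.RightFraction.map_s_comp_map]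
      rw [h]
      simp
    let eK := IsLimit.conePointUniqueUpToIso (kernelIsKernel S.g) hS.fIsKernel
    let iK : L.obj (kernel φ.f) ≅ L.obj (L.objPreimage S.X₁) := PreservesKernel.iso L φ.f ≪≫
      kernel.mapIso (L.map φ.f) S.g (asIso (L.map φ.s) ≪≫ e₂) e₃ hg ≪≫
        eK ≪≫ e₁.symm
    haveI := hS.epi_g
    have hR : IsZero (L.obj (cokernel φ.f)) :=
      IsZero.of_iso (isZero_cokernel_of_epi S.g) (PreservesCokernel.iso L φ.f ≪≫
        cokernel.mapIso (L.map φ.f) S.g (asIso (L.map φ.s) ≪≫ e₂) e₃ hg)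
    have h₂ := cl_sub_mem P L φ.s
    have h₁ := cl_sub_mem_of_iso P L iK
    have hr := cl_mem_range P L hR
    have d₁ : KZero.cl φ.X' = KZero.cl (kernel φ.f) + KZero.cl (kernel (cokernel.π φ.f)) :=
      cl_add _ (Dev46.shortExact_ker φ.f)
    have d₂ : KZero.cl (L.objPreimage S.X₃) =
        KZero.cl (kernel (cokernel.π φ.f)) + KZero.cl (cokernel φ.f) :=
      cl_add _ (Dev46.shortExact_coker φ.f)
    rw [d₁] at h₂
    rw [d₂]
    convert sub_mem (sub_mem h₁ h₂) hr using 1
    abel)

include P in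
theorem lamHom_surjective : Function.Surjective (lamHom L) := fun x => by
  haveI : L.EssSurj := Localization.essSurj L P.isoModSerre
  obtain ⟨z, rfl⟩ := QuotientAddGroup.mk_surjective x
  induction z using FreeAbelianGroup.induction_on with
  | zero => exact ⟨0, map_zero _⟩
  | of F => exact ⟨KZero.cl (L.objPreimage F), (lamHom_cl L _).trans (cl_iso (L.objObjPreimageIso F))⟩
  | neg z hz =>
    obtain ⟨a, ha⟩ := hz
    exact ⟨-a, by rw [map_neg, ha, QuotientAddGroup.mk_neg]⟩
  | add y z hy hz =>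
    obtain ⟨a, ha⟩ := hy
    obtain ⟨b, hb⟩ := hz
    exact ⟨a + b, by rw [map_add, ha, hb, QuotientAddGroup.mk_add]⟩

theorem ker_lamHom : (lamHom L).ker = (incl P).range := by
  refine le_antisymm (fun x hx => ?_) ?_
  · haveI : L.EssSurj := Localization.essSurj L P.isoModSerre
    have key : ∀ y, liftHom P L (lamHom L y) = QuotientAddGroup.mk y := fun y => by
      obtain ⟨z, rfl⟩ := QuotientAddGroup.mk_surjective y
      induction z using FreeAbelianGroup.induction_on with
      | zero => exact (congrArg (liftHom P L) (map_zero (lamHom L))).trans (map_zero _)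
      | of M =>
        refine ((congrArg (liftHom P L) (lamHom_cl L M)).trans
          (FreeAbelianGroup.lift_apply_of _ _)).trans ?_
        exact QuotientAddGroup.eq_iff_sub_mem.2 (cl_sub_mem_of_iso P L (L.objObjPreimageIso _))
      | neg z hz => rw [QuotientAddGroup.mk_neg, map_neg, map_neg, hz, QuotientAddGroup.mk_neg]
      | add y z hy hz =>
        rw [QuotientAddGroup.mk_add, map_add, map_add, hy, hz, QuotientAddGroup.mk_add]
    have h0 : lamHom L x = 0 := hx
    exact (QuotientAddGroup.eq_zero_iff x).1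
      ((key x).symm.trans ((congrArg (liftHom P L) h0).trans (map_zero _)))
  · rintro _ ⟨y, rfl⟩
    obtain ⟨z, rfl⟩ := QuotientAddGroup.mk_surjective y
    change lamHom L _ = 0
    induction z using FreeAbelianGroup.induction_on with
    | zero => exact (congrArg (lamHom L) (map_zero _)).trans (map_zero _)
    | of N =>
      rw [← KDer46.clSub_eq N.2, incl_clSub P N.2, lamHom_cl]
      exact cl_isZero ((ObjectProperty.SerreClassLocalization.isZero_obj_iff L P N.1).2 N.2)
    | neg z hz => rw [QuotientAddGroup.mk_neg, map_neg, map_neg, hz, neg_zero]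
    | add y z hy hz => rw [QuotientAddGroup.mk_add, map_add, map_add, hy, hz, add_zero]

end Groth.Agent.K0Serre46
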