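import Groth.Agent.K0Serre46.Main
import Mathlib.Algebra.FreeAbelianGroup.Finsupp
import Mathlib.Data.List.Count

/-!
The kernel of `K₀` of a Serre subcategory to `K₀` of the category: two-periodic complexes.
-/

set_option autoImplicit false
set_option linter.unusedSectionVars false
set_option linter.style.haveILetI false

noncomputable section

universe v u

open CategoryTheory CategoryTheory.Limits
open scoped ZeroObject

namespace Groth.Agent.K0Serre46

variable {A : Type u} [Category.{v} A] [Abelian A] (P : ObjectProperty A) [P.IsSerreClass]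

theorem cl_sub_homology_eq_zero {M : A} (φ ψ : M ⟶ M) (h₁ : φ ≫ ψ = 0) (h₂ : ψ ≫ φ = 0) :
    KZero.cl (ShortComplex.mk φ ψ h₁).homology - KZero.cl (ShortComplex.mk ψ φ h₂).homology = 0 := by
  have key : ∀ (φ ψ : M ⟶ M) (h : φ ≫ ψ = 0),
      KZero.cl (kernel ψ) = KZero.cl (kernel (cokernel.π φ)) +
        KZero.cl (ShortComplex.mk φ ψ h).homology := by
    intro φ ψ h
    have e := cl_add _ (Dev46.shortExact_coker (kernel.lift ψ φ h))
    change KZero.cl (kernel ψ) = KZero.cl (kernel (cokernel.π (kernel.lift ψ φ h))) +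
      KZero.cl (cokernel (kernel.lift ψ φ h)) at e
    rw [e]
    congr 1
    · have e₁ : KZero.cl M = KZero.cl (kernel (kernel.lift ψ φ h)) +
          KZero.cl (kernel (cokernel.π (kernel.lift ψ φ h))) := cl_add _ (Dev46.shortExact_ker _)
      have e₂ : KZero.cl M = KZero.cl (kernel φ) + KZero.cl (kernel (cokernel.π φ)) :=
        cl_add _ (Dev46.shortExact_ker φ)
      let k := kernelCompMono (kernel.lift ψ φ h) (kernel.ι ψ)
      have e₃ : KZero.cl (kernel φ) = KZero.cl (kernel (kernel.lift ψ φ h)) :=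
        cl_iso (kernelIsoOfEq (kernel.lift_ι _ _ _).symm ≪≫ k)
      rw [← e₃] at e₁
      exact add_left_cancel (e₁.symm.trans e₂)
    · exact cl_iso (ShortComplex.LeftHomologyData.ofHasKernelOfHasCokernel (ShortComplex.mk φ ψ h)).homologyIso.symm
  have hM : ∀ f : M ⟶ M, KZero.cl M = KZero.cl (kernel f) + KZero.cl (kernel (cokernel.π f)) :=
    fun f => cl_add _ (Dev46.shortExact_ker f)
  have a := key φ ψ h₁
  have b := key ψ φ h₂
  have c := (hM φ).symm.trans (hM ψ)
  rw [a, b] at c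
  rw [sub_eq_zero]
  refine add_left_cancel (a := KZero.cl (kernel (cokernel.π φ)) + KZero.cl (kernel (cokernel.π ψ))) ?_
  calc _ = KZero.cl (kernel (cokernel.π φ)) + KZero.cl (ShortComplex.mk φ ψ h₁).homology +
        KZero.cl (kernel (cokernel.π ψ)) := by abel
    _ = KZero.cl (kernel (cokernel.π ψ)) + KZero.cl (ShortComplex.mk ψ φ h₂).homology +
        KZero.cl (kernel (cokernel.π φ)) := c.symm
    _ = _ := by abel

/-- The direct sum of a list of objects. -/
def lsum : List A → A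
  | [] => 0
  | X :: l => X ⊞ lsum l

theorem nonempty_lsum_perm {l m : List A} (h : l.Perm m) : Nonempty (lsum l ≅ lsum m) := by
  induction h with
  | nil => exact ⟨Iso.refl _⟩
  | cons x _ ih => exact ⟨biprod.mapIso (Iso.refl x) ih.some⟩
  | swap x y l =>
    exact ⟨{ hom := biprod.lift (biprod.snd ≫ biprod.fst) (biprod.lift biprod.fst (biprod.snd ≫ biprod.snd))
             inv := biprod.lift (biprod.snd ≫ biprod.fst) (biprod.lift biprod.fst (biprod.snd ≫ biprod.snd))
             hom_inv_id := by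
               refine biprod.hom_ext _ _ ?_ (biprod.hom_ext _ _ ?_ ?_) <;> simp [lsum]
             inv_hom_id := by
               refine biprod.hom_ext _ _ ?_ (biprod.hom_ext _ _ ?_ ?_) <;> simp [lsum] }⟩
  | trans _ _ ih₁ ih₂ => exact ⟨ih₁.some ≪≫ ih₂.some⟩

theorem nonempty_lsum_append : ∀ l m : List A, Nonempty (lsum (l ++ m) ≅ lsum l ⊞ lsum m)
  | [], m => ⟨{ hom := biprod.inr, inv := biprod.snd
                hom_inv_id := by simp
                inv_hom_id := biprod.hom_ext' _ _ ((isZero_zero A).eq_of_src _ _) (by simp [lsum]) }⟩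
  | x :: l, m => ⟨biprod.mapIso (Iso.refl x) (nonempty_lsum_append l m).some ≪≫
      (biprod.associator x (lsum l) (lsum m)).symm⟩

/-- The direct sum of two short complexes. -/
def addSC (S T : ShortComplex A) : ShortComplex A :=
  ShortComplex.mk (biprod.map S.f T.f) (biprod.map S.g T.g) (by ext <;> simp)

/-- Lifting through the kernel of a direct sum. -/
def exists_lift_addSC {S T : ShortComplex A} (hS : S.ShortExact) (hT : T.ShortExact) {W : A}
    (k : W ⟶ S.X₂ ⊞ T.X₂) (hk : k ≫ biprod.map S.g T.g = 0) :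
    { l : W ⟶ S.X₁ ⊞ T.X₁ // l ≫ biprod.map S.f T.f = k } :=
  haveI := hS.mono_f
  haveI := hT.mono_f
  ⟨biprod.lift
      (hS.exact.lift (k ≫ biprod.fst) (by simpa using congrArg (· ≫ biprod.fst) hk))
      (hT.exact.lift (k ≫ biprod.snd) (by simpa using congrArg (· ≫ biprod.snd) hk)), by
    refine biprod.hom_ext _ _ ?_ ?_ <;> simp⟩

theorem shortExact_addSC {S T : ShortComplex A} (hS : S.ShortExact) (hT : T.ShortExact) :
    (addSC S T).ShortExact := by
  haveI := hS.mono_f
  haveI := hT.mono_f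
  haveI := hS.epi_g
  haveI := hT.epi_g
  haveI : Mono (addSC S T).f := inferInstanceAs (Mono (biprod.map S.f T.f))
  exact
    { exact := by
        refine ShortComplex.exact_of_f_is_kernel _ (KernelFork.IsLimit.ofι' _ _ fun {W} k hk => ?_)
        exact exists_lift_addSC hS hT k hk
      mono_f := inferInstanceAs (Mono (biprod.map S.f T.f))
      epi_g := inferInstanceAs (Epi (biprod.map S.g T.g)) }


theorem exists_shortExact_lsum (l : List (ShortComplex A)) (hl : ∀ S ∈ l, S.ShortExact) :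
    ∃ S : ShortComplex A, S.ShortExact ∧ Nonempty (S.X₁ ≅ lsum (l.map ShortComplex.X₁)) ∧
      Nonempty (S.X₂ ≅ lsum (l.map ShortComplex.X₂)) ∧
      Nonempty (S.X₃ ≅ lsum (l.map ShortComplex.X₃)) := by
  induction l with
  | nil =>
    refine ⟨ShortComplex.mk (𝟙 (0 : A)) (0 : (0 : A) ⟶ (0 : A)) comp_zero, ?_, ⟨Iso.refl _⟩, ⟨Iso.refl _⟩,
      ⟨Iso.refl _⟩⟩
    exact
      { exact := ShortComplex.exact_of_isZero_X₂ _ (isZero_zero A)
        epi_g := ⟨fun g h _ => (isZero_zero A).eq_of_src g h⟩ }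
  | cons T l ih =>
    obtain ⟨S, hS, e₁, e₂, e₃⟩ := ih fun X hX => hl X (List.mem_cons_of_mem _ hX)
    exact ⟨addSC T S, shortExact_addSC (hl T (List.mem_cons_self ..)) hS,
      ⟨biprod.mapIso (Iso.refl _) e₁.some⟩, ⟨biprod.mapIso (Iso.refl _) e₂.some⟩,
      ⟨biprod.mapIso (Iso.refl _) e₃.some⟩⟩

section Model

variable (S S' : ShortComplex A) (X Y : A)

/-- Half of the periodic complex. -/
def diff : (S.X₁ ⊞ S.X₃) ⊞ (S'.X₂ ⊞ X) ⟶ (S'.X₁ ⊞ S'.X₃) ⊞ (S.X₂ ⊞ Y) :=
  biprod.desc (biprod.desc (S.f ≫ biprod.inl ≫ biprod.inr) 0)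
    (biprod.desc (S'.g ≫ biprod.inr ≫ biprod.inl) 0)

theorem diff_comp : diff S S' X Y ≫ diff S' S Y X = 0 := by
  ext <;> simp [diff]

theorem nonempty_homology (hS : S.ShortExact) (hS' : S'.ShortExact) :
    Nonempty ((ShortComplex.mk (diff S S' X Y) (diff S' S Y X) (diff_comp S S' X Y)).homology ≅ Y) := by
  haveI := hS.mono_f
  haveI := hS'.mono_f
  haveI := hS'.epi_g
  let T := ShortComplex.mk (diff S S' X Y) (diff S' S Y X) (diff_comp S S' X Y)
  let i : (S.X₁ ⊞ S'.X₃) ⊞ Y ⟶ T.X₂ :=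
    biprod.desc (biprod.desc (S.f ≫ biprod.inl ≫ biprod.inr) (biprod.inr ≫ biprod.inl))
      (biprod.inr ≫ biprod.inr)
  have wi : i ≫ T.g = 0 := by
    ext <;> simp [i, T, diff]
  have hlim : IsLimit (KernelFork.ofι i wi) := by
    haveI : Mono i := by
      refine Preadditive.mono_of_cancel_zero _ fun {W} k hk => ?_
      have a : k ≫ biprod.fst ≫ biprod.fst = 0 := by
        rw [← cancel_mono S.f, zero_comp]
        have := congrArg (· ≫ biprod.snd ≫ biprod.fst) hk
        simpa [i, biprod.desc_eq] using this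
      have b : k ≫ biprod.fst ≫ biprod.snd = 0 := by
        have := congrArg (· ≫ biprod.fst ≫ biprod.snd) hk
        simpa [i, biprod.desc_eq] using this
      have c : k ≫ biprod.snd = 0 := by
        have := congrArg (· ≫ biprod.snd ≫ biprod.snd) hk
        simpa [i, biprod.desc_eq] using this
      ext <;> simp [a, b, c]
    refine KernelFork.IsLimit.ofι' _ _ fun {W} k hk => ?_
    have h₁ : (k ≫ biprod.snd ≫ biprod.fst) ≫ S.g = 0 := by
      have := congrArg (· ≫ biprod.fst ≫ biprod.snd) hk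
      simpa [T, diff, biprod.desc_eq] using this
    have h₂ : k ≫ biprod.fst ≫ biprod.fst = 0 := by
      rw [← cancel_mono S'.f, zero_comp]
      have := congrArg (· ≫ biprod.snd ≫ biprod.fst) hk
      simpa [T, diff, biprod.desc_eq] using this
    refine ⟨biprod.lift (biprod.lift (hS.exact.lift _ h₁) (k ≫ biprod.fst ≫ biprod.snd))
      (k ≫ biprod.snd ≫ biprod.snd), ?_⟩
    ext <;> simp [i, T, biprod.desc_eq, h₂]
  let f' : T.X₁ ⟶ (S.X₁ ⊞ S'.X₃) ⊞ Y :=
    biprod.desc (biprod.desc (biprod.inl ≫ biprod.inl) 0)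
      (biprod.desc (S'.g ≫ biprod.inr ≫ biprod.inl) 0)
  have hf' : hlim.lift (KernelFork.ofι T.f T.zero) = f' := by
    refine Fork.IsLimit.hom_ext hlim ?_
    rw [Fork.IsLimit.lift_ι]
    change T.f = f' ≫ i
    ext <;> simp [f', i, T, diff]
  have wπ : hlim.lift (KernelFork.ofι T.f T.zero) ≫ (biprod.snd : (S.X₁ ⊞ S'.X₃) ⊞ Y ⟶ Y) = 0 := by
    rw [hf']
    change f' ≫ (biprod.snd : (S.X₁ ⊞ S'.X₃) ⊞ Y ⟶ Y) = 0
    ext <;> simp [f', T]
  have hcolim : IsColimit (CokernelCofork.ofπ (biprod.snd : (S.X₁ ⊞ S'.X₃) ⊞ Y ⟶ Y) wπ) := by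
    refine CokernelCofork.IsColimit.ofπ' _ _ fun {W} k hk => ⟨biprod.inr ≫ k, ?_⟩
    have hk' : f' ≫ k = 0 := hf' ▸ hk
    have a : biprod.inl ≫ biprod.inl ≫ k = 0 := by
      have := congrArg (fun φ => biprod.inl ≫ biprod.inl ≫ φ) hk'
      simpa [f'] using this
    have b : biprod.inr ≫ biprod.inl ≫ k = 0 := by
      rw [← cancel_epi S'.g, comp_zero]
      have := congrArg (fun φ => biprod.inl ≫ biprod.inr ≫ φ) hk'
      simpa [f'] using this
    ext <;> simp [a, b]
  exact ⟨(ShortComplex.LeftHomologyData.mk _ Y i biprod.snd wi hlim wπ hcolim : T.LeftHomologyData).homologyIso⟩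

end Model

theorem exists_periodic {a b : A} (ha : P a) (hb : P b) (S S' : ShortComplex A) (hS : S.ShortExact)
    (hS' : S'.ShortExact) (θ : (S.X₁ ⊞ S.X₃) ⊞ (S'.X₂ ⊞ a) ≅ (S'.X₁ ⊞ S'.X₃) ⊞ (S.X₂ ⊞ b)) :
    ∃ (M : A) (φ ψ : M ⟶ M) (h₁ : φ ≫ ψ = 0) (h₂ : ψ ≫ φ = 0),
      P (ShortComplex.mk φ ψ h₁).homology ∧ P (ShortComplex.mk ψ φ h₂).homology ∧
      KZero.clSub P a - KZero.clSub P b =
        KZero.clSub P (ShortComplex.mk φ ψ h₁).homology - KZero.clSub P (ShortComplex.mk ψ φ h₂).homology := by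
  have h₁ : (θ.hom ≫ diff S' S b a) ≫ (diff S S' a b ≫ θ.inv) = 0 := by
    rw [Category.assoc, reassoc_of% diff_comp S' S b a, zero_comp, comp_zero]
  have h₂ : (diff S S' a b ≫ θ.inv) ≫ (θ.hom ≫ diff S' S b a) = 0 := by
    rw [Category.assoc, θ.inv_hom_id_assoc, diff_comp]
  have e₁ : (ShortComplex.mk _ _ h₁) ≅
      ShortComplex.mk (diff S' S b a) (diff S S' a b) (diff_comp S' S b a) :=
    ShortComplex.isoMk θ (Iso.refl _) θ (by simp) (by simp)
  have e₂ : (ShortComplex.mk _ _ h₂) ≅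
      ShortComplex.mk (diff S S' a b) (diff S' S b a) (diff_comp S S' a b) :=
    ShortComplex.isoMk (Iso.refl _) θ (Iso.refl _) (by simp) (by simp)
  obtain ⟨i₁⟩ := nonempty_homology S' S b a hS' hS
  obtain ⟨i₂⟩ := nonempty_homology S S' a b hS hS'
  let j₁ := ShortComplex.homologyMapIso e₁ ≪≫ i₁
  let j₂ := ShortComplex.homologyMapIso e₂ ≪≫ i₂
  have p₁ : P (ShortComplex.mk _ _ h₁).homology := P.prop_of_iso j₁.symm ha
  have p₂ : P (ShortComplex.mk _ _ h₂).homology := P.prop_of_iso j₂.symm hb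
  exact ⟨_, _, _, h₁, h₂, p₁, p₂, by rw [KDer46.clSub_iso j₁, KDer46.clSub_iso j₂]⟩

open Classical in
theorem perm_of_sum_eq {l m : List A}
    (h : (l.map FreeAbelianGroup.of).sum = (m.map FreeAbelianGroup.of).sum) : l.Perm m := by
  have key : ∀ (n : List A) (x : A),
      FreeAbelianGroup.coeff x (n.map FreeAbelianGroup.of).sum = n.count x := by
    intro n x
    induction n with
    | nil => simp
    | cons y n ih =>
      rw [List.map_cons, List.sum_cons, map_add, ih, List.count_cons]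
      by_cases hxy : y = x
      · subst hxy
        simp [FreeAbelianGroup.coeff, add_comm]
      · simp [FreeAbelianGroup.coeff, hxy]
  refine List.perm_iff_count.2 fun x => ?_
  have := congrArg (FreeAbelianGroup.coeff x) h
  rw [key, key] at this
  exact_mod_cast this

theorem exists_lists {x : FreeAbelianGroup A} (hx : x ∈ KZero.relAb A) :
    ∃ l m : List (ShortComplex A), (∀ S ∈ l, S.ShortExact) ∧ (∀ S ∈ m, S.ShortExact) ∧
      x + (((l.map ShortComplex.X₁) ++ (l.map ShortComplex.X₃) ++ (m.map ShortComplex.X₂)).map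
          FreeAbelianGroup.of).sum =
        (((m.map ShortComplex.X₁) ++ (m.map ShortComplex.X₃) ++ (l.map ShortComplex.X₂)).map
          FreeAbelianGroup.of).sum := by
  induction hx using AddSubgroup.closure_induction with
  | mem x hx =>
    obtain ⟨S, hS, rfl⟩ := hx
    refine ⟨[S], [], by simpa using hS, by simp, ?_⟩
    simp only [List.map_cons, List.map_nil, List.cons_append, List.nil_append, List.append_nil,
      List.sum_cons, List.sum_nil, add_zero]
    abel
  | zero => exact ⟨[], [], by simp, by simp, by simp⟩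
  | add x y _ _ hx hy =>
    obtain ⟨l, m, hl, hm, e⟩ := hx
    obtain ⟨l', m', hl', hm', e'⟩ := hy
    refine ⟨l ++ l', m ++ m', fun S hS => (List.mem_append.1 hS).elim (hl S) (hl' S),
      fun S hS => (List.mem_append.1 hS).elim (hm S) (hm' S), ?_⟩
    simp only [List.map_append, List.sum_append] at e e' ⊢
    rw [← sub_eq_zero] at e e' ⊢
    convert congrArg₂ (· + ·) e e' using 1
    · abel
    · simp
  | neg x _ hx =>
    obtain ⟨l, m, hl, hm, e⟩ := hx
    refine ⟨m, l, hm, hl, ?_⟩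
    rw [← e]
    abel

theorem exists_sub (x : KZero.K0sub P) :
    ∃ a b : A, P a ∧ P b ∧ x = KZero.clSub P a - KZero.clSub P b := by
  have hadd : ∀ {a b : A}, P a → P b →
      KZero.clSub P (a ⊞ b) = KZero.clSub P a + KZero.clSub P b := fun {a b} ha hb =>
    KDer46.clSub_add (ShortComplex.mk (biprod.inl : a ⟶ a ⊞ b) biprod.snd (by simp))
      (ShortComplex.Splitting.ofHasBinaryBiproduct a b).shortExact ha (P.prop_biprod ha hb) hb
  obtain ⟨z, rfl⟩ := QuotientAddGroup.mk_surjective x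
  induction z using FreeAbelianGroup.induction_on with
  | zero =>
    exact ⟨0, 0, P.prop_zero, P.prop_zero, (sub_self _).symm⟩
  | of X =>
    refine ⟨X.1, 0, X.2, P.prop_zero, ?_⟩
    rw [KDer46.clSub_isZero (isZero_zero A), sub_zero, KDer46.clSub_eq X.2]
  | neg z hz =>
    obtain ⟨a, b, ha, hb, e⟩ := hz
    exact ⟨b, a, hb, ha, by rw [QuotientAddGroup.mk_neg, e, neg_sub]⟩
  | add y z hy hz =>
    obtain ⟨a, b, ha, hb, e⟩ := hy
    obtain ⟨c, d, hc, hd, e'⟩ := hz
    refine ⟨a ⊞ c, b ⊞ d, P.prop_biprod ha hc, P.prop_biprod hb hd, ?_⟩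
    rw [QuotientAddGroup.mk_add, e, e', hadd ha hc, hadd hb hd]
    abel

theorem incl_eq_zero_iff (x : KZero.K0sub P) :
    incl P x = 0 ↔ ∃ (M : A) (φ ψ : M ⟶ M) (h₁ : φ ≫ ψ = 0) (h₂ : ψ ≫ φ = 0),
      P (ShortComplex.mk φ ψ h₁).homology ∧ P (ShortComplex.mk ψ φ h₂).homology ∧
      x = KZero.clSub P (ShortComplex.mk φ ψ h₁).homology -
        KZero.clSub P (ShortComplex.mk ψ φ h₂).homology := by
  constructor
  · intro hx
    obtain ⟨a, b, ha, hb, rfl⟩ := exists_sub P x
    rw [map_sub, incl_clSub P ha, incl_clSub P hb, KZero.cl, KZero.cl, ← QuotientAddGroup.mk_sub,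
      QuotientAddGroup.eq_zero_iff] at hx
    obtain ⟨l, m, hl, hm, e⟩ := exists_lists hx
    obtain ⟨S, hS, ⟨s₁⟩, ⟨s₂⟩, ⟨s₃⟩⟩ := exists_shortExact_lsum l hl
    obtain ⟨T, hT, ⟨t₁⟩, ⟨t₂⟩, ⟨t₃⟩⟩ := exists_shortExact_lsum m hm
    have hperm : ((l.map ShortComplex.X₁ ++ l.map ShortComplex.X₃) ++
        (m.map ShortComplex.X₂ ++ [a])).Perm
        ((m.map ShortComplex.X₁ ++ m.map ShortComplex.X₃) ++ (l.map ShortComplex.X₂ ++ [b])) := by
      refine perm_of_sum_eq ?_
      simp only [List.map_append, List.sum_append, List.map_cons, List.map_nil, List.sum_cons,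
        List.sum_nil, add_zero] at e ⊢
      rw [← sub_eq_zero] at e ⊢
      rw [← e]
      abel
    let one : ∀ c : A, c ≅ lsum [c] := fun c =>
      { hom := biprod.inl, inv := biprod.fst
        hom_inv_id := biprod.inl_fst
        inv_hom_id := biprod.hom_ext' _ _ (by simp [lsum]) ((isZero_zero A).eq_of_src _ _) }
    let glue : ∀ (p q r : List A) (c : A),
        (lsum p ⊞ lsum q) ⊞ (lsum r ⊞ c) ≅ lsum ((p ++ q) ++ (r ++ [c])) := fun p q r c =>
      (biprod.mapIso (nonempty_lsum_append p q).some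
        ((nonempty_lsum_append r [c]).some ≪≫ biprod.mapIso (Iso.refl _) (one c).symm)).symm ≪≫
        (nonempty_lsum_append _ _).some.symm
    exact exists_periodic P ha hb S T hS hT
      (biprod.mapIso (biprod.mapIso s₁ s₃) (biprod.mapIso t₂ (Iso.refl a)) ≪≫ glue _ _ _ a ≪≫
        (nonempty_lsum_perm hperm).some ≪≫ (glue _ _ _ b).symm ≪≫
        (biprod.mapIso (biprod.mapIso t₁ t₃) (biprod.mapIso s₂ (Iso.refl b))).symm)
  · rintro ⟨M, φ, ψ, h₁, h₂, p₁, p₂, rfl⟩
    rw [map_sub, incl_clSub P p₁, incl_clSub P p₂]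
    exact cl_sub_homology_eq_zero φ ψ h₁ h₂

end Groth.Agent.K0Serre46
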